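import Mathlib

/-!
# Aschbacher's theorem on doubly transitive groups of degree `n ≡ 2 mod 4` (S3401): definitions

Elementary forms of transitivity / 2-transitivity of a subgroup `N` of `G` on a `G`-set `Ω`,
and the fixed point set of a subgroup.
-/

set_option autoImplicit false

namespace Cfsg.Agent.Helper35.Asch

variable {G : Type*} [Group G] {Ω : Type*} [MulAction G Ω]

/-- `N` is transitive on `Ω`. -/
def Trans (N : Subgroup G) (Ω : Type*) [MulAction G Ω] : Prop :=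
  ∀ a b : Ω, ∃ g ∈ N, g • a = b

/-- `N` is 2-transitive on `Ω`. -/
def TwoTrans (N : Subgroup G) (Ω : Type*) [MulAction G Ω] : Prop :=
  ∀ ⦃a b c d : Ω⦄, a ≠ b → c ≠ d → ∃ g ∈ N, g • a = c ∧ g • b = d

/-- the fixed point set of a subgroup. -/
def fix (Q : Subgroup G) (Ω : Type*) [MulAction G Ω] : Set Ω :=
  {ω | ∀ q ∈ Q, q • ω = ω}

/-- the stabilizer of a point in a subgroup, as a subgroup of `G`. -/
abbrev stabIn (N : Subgroup G) (a : Ω) : Subgroup G := N ⊓ MulAction.stabilizer G a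

theorem mem_fix {Q : Subgroup G} {ω : Ω} : ω ∈ fix Q Ω ↔ ∀ q ∈ Q, q • ω = ω := Iff.rfl

theorem twoTrans_top_iff :
    TwoTrans (⊤ : Subgroup G) Ω ↔ MulAction.IsMultiplyPretransitive G Ω 2 := by
  rw [MulAction.is_two_pretransitive_iff]
  constructor
  · intro h a b c d hab hcd
    obtain ⟨g, -, h1, h2⟩ := h hab hcd
    exact ⟨g, h1, h2⟩
  · intro h a b c d hab hcd
    obtain ⟨g, h1, h2⟩ := h hab hcd
    exact ⟨g, Subgroup.mem_top g, h1, h2⟩

theorem twoTrans_subgroup_iff (N : Subgroup G) :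
    TwoTrans N Ω ↔ MulAction.IsMultiplyPretransitive ↥N Ω 2 := by
  rw [MulAction.is_two_pretransitive_iff]
  constructor
  · intro h a b c d hab hcd
    obtain ⟨g, hg, h1, h2⟩ := h hab hcd
    exact ⟨⟨g, hg⟩, h1, h2⟩
  · intro h a b c d hab hcd
    obtain ⟨g, h1, h2⟩ := h hab hcd
    exact ⟨g.1, g.2, h1, h2⟩

end Cfsg.Agent.Helper35.Asch
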