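import Mathlib
import Cfsg.Agent.Helper35.Asch.Defs

/-!
# S3401: the `Setup` structure (shared by the pieces)
-/

set_option autoImplicit false

namespace Cfsg.Agent.Helper35.Asch

open MulAction

/-- the data: a Sylow 2-subgroup `Q` of `N_a`, a Sylow 2-subgroup `S ≥ Q` of `N`, with `|S : Q| = 2`,
and `t ∈ S ∖ Q`. -/
structure Setup (G : Type*) [Group G] (Ω : Type*) [MulAction G Ω] where
  N : Subgroup G
  a : Ω
  Q : Subgroup G
  S : Subgroup G
  t : G
  normal : N.Normal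
  trans : Trans N Ω
  twoTrans : TwoTrans (⊤ : Subgroup G) Ω
  hQle : Q ≤ stabIn N a
  hQ : IsPGroup 2 Q
  hQidx : ¬ 2 ∣ Q.relIndex (stabIn N a)
  hQS : Q ≤ S
  hSN : S ≤ N
  hS : IsPGroup 2 S
  hSidx : ¬ 2 ∣ S.relIndex N
  hcard : Nat.card S = 2 * Nat.card Q
  htS : t ∈ S
  htQ : t ∉ Q

end Cfsg.Agent.Helper35.Asch
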