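import Mathlib
import Cfsg.Agent.Helper35.Asch.Defs

/-!
# S3401, piece (Eabs): the sign argument
-/

set_option autoImplicit false

namespace Cfsg.Agent.Helper35.Asch

open MulAction

/-- orbit-stabilizer: if `K` is transitive on `Φ` and `Q ≤ K` acts trivially then
`card Φ * card Q ∣ card K`. -/
theorem card_mul_card_dvd {B : Type*} [Group B] [Finite B] {Φ : Type*} [Fintype Φ]
    [MulAction B Φ] (K Q : Subgroup B) (hQK : Q ≤ K) (hQ : ∀ q ∈ Q, ∀ x : Φ, q • x = x)
    (hK : Trans K Φ) (x : Φ) : Fintype.card Φ * Nat.card Q ∣ Nat.card K := by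
  have : MulAction.IsPretransitive ↥K Φ :=
    ⟨fun a b => by
      obtain ⟨g, hg, h⟩ := hK a b
      exact ⟨⟨g, hg⟩, h⟩⟩
  have h1 : (MulAction.stabilizer ↥K x).index = Nat.card Φ :=
    MulAction.index_stabilizer_of_transitive ..
  have h2 := Subgroup.card_mul_index (MulAction.stabilizer ↥K x)
  have h3 : Nat.card Q ∣ Nat.card (MulAction.stabilizer ↥K x) := by
    have hle : Q.subgroupOf K ≤ MulAction.stabilizer ↥K x := fun q hq => by
      rw [MulAction.mem_stabilizer_iff]
      exact hQ q.1 (Subgroup.mem_subgroupOf.1 hq) x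
    have := Subgroup.card_dvd_of_le hle
    rwa [Nat.card_congr (Subgroup.subgroupOfEquivOfLe hQK).toEquiv] at this
  obtain ⟨c, hc⟩ := h3
  rw [← h2, h1, hc, Nat.card_eq_fintype_card (α := Φ)]
  exact ⟨c, by ring⟩

/-- a fixed-point-free involution on a set of `2 * odd` points is an odd permutation. -/
theorem sign_eq_neg_one_of_involution {Φ : Type*} [Fintype Φ] [DecidableEq Φ]
    (σ : Equiv.Perm Φ) (h2 : σ ^ 2 = 1) (hf : ∀ x, σ x ≠ x) (k : ℕ) (hk : Odd k)
    (hcard : Fintype.card Φ = 2 * k) : Equiv.Perm.sign σ = -1 := by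
  have hne : σ ≠ 1 := by
    intro h
    have hpos : 0 < Fintype.card Φ := by
      rw [hcard]
      have := hk.pos
      omega
    obtain ⟨x⟩ := Fintype.card_pos_iff.1 hpos
    exact hf x (by rw [h]; rfl)
  have hord : orderOf σ = 2 := orderOf_eq_prime h2 hne
  obtain ⟨n, hn⟩ := Equiv.Perm.cycleType_prime_order (σ := σ) (by rw [hord]; exact Nat.prime_two)
  rw [hord] at hn
  have hsupp : σ.support = Finset.univ := by
    ext x
    simp [Equiv.Perm.mem_support, hf x]
  have hsum : σ.cycleType.sum = 2 * k := by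
    rw [Equiv.Perm.sum_cycleType, hsupp, Finset.card_univ, hcard]
  have hn1 : n + 1 = k := by
    rw [hn, Multiset.sum_replicate, smul_eq_mul] at hsum
    omega
  rw [Equiv.Perm.sign_of_cycleType, hsum, hn, Multiset.card_replicate, hn1]
  have : 2 * k + k = 3 * k := by ring
  rw [this]
  have h3k : Odd (3 * k) := Odd.mul (by decide) hk
  exact h3k.neg_one_pow

/-- (Eabs) the abstract endgame: the sign argument. -/
theorem card_le_two_of_sign {B : Type*} [Group B] [Finite B] {Φ : Type*} [Fintype Φ]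
    [MulAction B Φ] (A Q : Subgroup B) [A.Normal] (hQA : Q ≤ A)
    (hQ : ∀ q ∈ Q, ∀ x : Φ, q • x = x) (t : B) (htA : t ∈ A) (ht2 : t * t ∈ Q)
    (htf : ∀ x : Φ, t • x ≠ x) (h2 : TwoTrans (⊤ : Subgroup B) Φ) (hA : Trans A Φ)
    (m : ℕ) (hm : Odd m) (hcard : Nat.card A = 2 * m * Nat.card Q) :
    Fintype.card Φ ≤ 2 := by
  classical
  rcases isEmpty_or_nonempty Φ with hΦ | ⟨⟨x₀⟩⟩
  · rw [Fintype.card_eq_zero]
    omega
  have hQpos : 0 < Nat.card Q := Nat.card_pos
  -- `card Φ ∣ 2 * m`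
  have hdvd : Fintype.card Φ ∣ 2 * m := by
    have := card_mul_card_dvd A Q hQA hQ hA x₀
    rw [hcard] at this
    exact Nat.dvd_of_mul_dvd_mul_right hQpos this
  -- the permutation `σ` induced by `t`
  set σ : Equiv.Perm Φ := MulAction.toPermHom B Φ t with hσ
  have hσx : ∀ x, σ x = t • x := fun x => rfl
  have hσ2 : σ ^ 2 = 1 := by
    ext x
    rw [sq, Equiv.Perm.mul_apply, hσx, hσx, ← mul_smul, hQ _ ht2 x]
    rfl
  have hsupp : σ.support = Finset.univ := by
    ext x
    simp [Equiv.Perm.mem_support, hσx, htf x]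
  have heven : 2 ∣ Fintype.card Φ := by
    have := Equiv.Perm.two_dvd_card_support hσ2
    rwa [hsupp, Finset.card_univ] at this
  obtain ⟨k, hk⟩ := heven
  have hkm : k ∣ m := by
    rw [hk] at hdvd
    exact Nat.dvd_of_mul_dvd_mul_left (by norm_num) hdvd
  have hkodd : Odd k := hm.of_dvd_nat hkm
  have hsign : Equiv.Perm.sign σ = -1 :=
    sign_eq_neg_one_of_involution σ hσ2 (fun x => by rw [hσx]; exact htf x) k hkodd hk
  -- the sign character of `B`
  set sg : B →* ℤˣ := Equiv.Perm.sign.comp (MulAction.toPermHom B Φ) with hsg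
  have hsgt : sg t = -1 := hsign
  have hsgQ : ∀ q ∈ Q, sg q = 1 := by
    intro q hq
    have : MulAction.toPermHom B Φ q = 1 := by
      ext x
      exact hQ q hq x
    rw [hsg, MonoidHom.comp_apply, this, map_one]
  -- `A1 = A ⊓ ker sg`
  set A1 : Subgroup B := A ⊓ sg.ker with hA1
  have hQA1 : Q ≤ A1 := fun q hq => ⟨hQA hq, MonoidHom.mem_ker.2 (hsgQ q hq)⟩
  have hA1A : A1 ≤ A := inf_le_left
  have hconj : ∀ (g : B) (a : B), a ∈ A1 → g * a * g⁻¹ ∈ A1 := by
    intro g a ha
    refine ⟨Subgroup.Normal.conj_mem inferInstance a ha.1 g, ?_⟩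
    have h1 : sg a = 1 := MonoidHom.mem_ker.1 ha.2
    apply MonoidHom.mem_ker.2
    rw [map_mul, map_mul, map_inv, h1, mul_one, mul_inv_cancel]
  -- index 2
  have hidx : A1.relIndex A = 2 := by
    rw [hA1, inf_comm, Subgroup.inf_relIndex_right, Subgroup.relIndex_ker]
    have htop : A.map sg = ⊤ := by
      rw [eq_top_iff]
      intro u _
      rcases Int.units_eq_one_or u with rfl | rfl
      · exact Subgroup.one_mem _
      · exact ⟨t, htA, hsgt⟩
    rw [htop, Nat.card_eq_fintype_card, Fintype.card_congr Subgroup.topEquiv.toEquiv]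
    rfl
  have hcardA1 : Nat.card A1 = m * Nat.card Q := by
    have h := Subgroup.relIndex_mul_relIndex ⊥ A1 A bot_le hA1A
    rw [Subgroup.relIndex_bot_left, Subgroup.relIndex_bot_left, hidx, hcard] at h
    have : Nat.card A1 * 2 = (m * Nat.card Q) * 2 := by rw [h]; ring
    exact Nat.eq_of_mul_eq_mul_right (by norm_num) this
  -- `A1` acts trivially on `Φ`
  have htriv : ∀ a ∈ A1, ∀ y : Φ, a • y = y := by
    by_contra hcon
    push Not at hcon
    obtain ⟨a1, ha1, y, hy⟩ := hcon
    have hT1 : Trans A1 Φ := by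
      intro u v
      by_cases huv : u = v
      · exact ⟨1, Subgroup.one_mem _, by rw [one_smul, huv]⟩
      · obtain ⟨g, -, hg1, hg2⟩ := h2 (Ne.symm hy) huv
        refine ⟨g * a1 * g⁻¹, hconj g a1 ha1, ?_⟩
        rw [mul_smul, mul_smul, ← hg1, inv_smul_smul, hg2]
    have := card_mul_card_dvd A1 Q hQA1 hQ hT1 x₀
    rw [hcardA1] at this
    have h3 : Fintype.card Φ ∣ m := Nat.dvd_of_mul_dvd_mul_right hQpos this
    have h4 : Odd (Fintype.card Φ) := hm.of_dvd_nat h3
    rw [hk] at h4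
    exact (Nat.not_even_iff_odd.2 h4) (even_two_mul k)
  -- every point is `x₀` or `t • x₀`
  have hall : ∀ y : Φ, y = x₀ ∨ y = t • x₀ := by
    intro y
    obtain ⟨a, ha, rfl⟩ := hA x₀ y
    rcases Int.units_eq_one_or (sg a) with h | h
    · left
      exact htriv a ⟨ha, MonoidHom.mem_ker.2 h⟩ x₀
    · right
      have hmem : t⁻¹ * a ∈ A1 := by
        refine ⟨Subgroup.mul_mem _ (Subgroup.inv_mem _ htA) ha, ?_⟩
        apply MonoidHom.mem_ker.2
        rw [map_mul, map_inv, hsgt, h]
        decide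
      have := htriv _ hmem x₀
      rw [mul_smul, inv_smul_eq_iff] at this
      exact this
  have hsub : (Finset.univ : Finset Φ) ⊆ {x₀, t • x₀} := by
    intro y _
    rcases hall y with h | h
    · simp [h]
    · simp [h]
  calc Fintype.card Φ = (Finset.univ : Finset Φ).card := Finset.card_univ.symm
    _ ≤ ({x₀, t • x₀} : Finset Φ).card := Finset.card_le_card hsub
    _ ≤ 2 := Finset.card_le_two

end Cfsg.Agent.Helper35.Asch
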