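import Mathlib
import Cfsg.Agent.Helper35.Asch.Defs
import Cfsg.Agent.Helper35.Asch.Setup
import Cfsg.Agent.Helper35.Asch.Eabs
import Cfsg.Agent.Helper84.SylowRel
import Cfsg.Agent.Helper93.AschT
import Cfsg.Agent.Helper68.AschS8
import Cfsg.Agent.Helper53.AschS5
import Cfsg.Agent.Helper24.AschS34
import Cfsg.Agent.Helper73.AschS2
import Cfsg.Agent.Helper38.AschR

/-!
# S3401 (Aschbacher: doubly transitive groups of degree `n ≡ 2 mod 4`): assembly
-/

set_option autoImplicit false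
set_option linter.unusedSectionVars false
set_option linter.unusedVariables false

namespace Cfsg.Agent.Helper35.Asch

open MulAction

variable {G : Type*} [Group G] [Finite G] {Ω : Type*} [Fintype Ω] [MulAction G Ω]

/-! ## LEAF PIECES (proved by the team; restated here) -/

/-- (T) a nontrivial normal subgroup of a faithful 2-transitive group is transitive. -/
theorem trans_of_normal [FaithfulSMul G Ω] (h2 : TwoTrans (⊤ : Subgroup G) Ω)
    (N : Subgroup G) [N.Normal] (hN : N ≠ ⊥) : Trans N Ω := by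
  exact Cfsg.Agent.Helper93.Asch.trans_of_normal h2 N hN

/-- (R) a transitive normal subgroup is not semiregular (else it is regular, all its non-identity
elements are conjugate under `G_a`, so it is a 2-group and `card Ω` is a power of 2). -/
theorem exists_ne_one_mem_stab_of_trans (h2 : TwoTrans (⊤ : Subgroup G) Ω)
    (hn : Fintype.card Ω % 4 = 2) (hn2 : 2 < Fintype.card Ω)
    (N : Subgroup G) [N.Normal] (hT : Trans N Ω) (a : Ω) : ∃ x ∈ N, x ≠ 1 ∧ x • a = a := by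
  exact Cfsg.Agent.Helper38.Asch.exists_ne_one_mem_stab_of_trans h2 hn hn2 N hT a

/-- (U) there is a unique minimal normal subgroup, given that centralizers of nontrivial normal
subgroups are trivial. -/
theorem exists_min_normal_of_centralizer [Nontrivial G]
    (hC : ∀ N : Subgroup G, N.Normal → N ≠ ⊥ → Subgroup.centralizer (N : Set G) = ⊥) :
    ∃ M : Subgroup G, M.Normal ∧ M ≠ ⊥ ∧ ∀ N : Subgroup G, N.Normal → N ≠ ⊥ → M ≤ N := by
  exact Cfsg.Agent.Helper93.Asch.exists_min_normal_of_centralizer hC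

/-- (S1a) stabilizers in a transitive subgroup have the same order. -/
theorem card_stabIn_eq {N : Subgroup G} (hT : Trans N Ω) (a b : Ω) :
    Nat.card (stabIn N a) = Nat.card (stabIn N b) := by
  exact Cfsg.Agent.Helper93.Asch.card_stabIn_eq hT a b

/-- (S1b) orbit-stabilizer for a transitive subgroup. -/
theorem card_eq_card_mul {N : Subgroup G} (hT : Trans N Ω) (a : Ω) :
    Nat.card N = Fintype.card Ω * Nat.card (stabIn N a) := by
  exact Cfsg.Agent.Helper93.Asch.card_eq_card_mul hT a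

/-- (S2) the suborbits of `N` have odd length: `G_a` permutes the `N_a`-orbits on `Ω ∖ {a}`
transitively, so they have a common length `d`, and `d ∣ card Ω - 1`, which is odd. -/
theorem odd_relIndex_stab_stab (h2 : TwoTrans (⊤ : Subgroup G) Ω) (N : Subgroup G) [N.Normal]
    (hn : Even (Fintype.card Ω)) {a b : Ω} (hab : a ≠ b) :
    ¬ 2 ∣ (stabIn N a ⊓ stabilizer G b).relIndex (stabIn N a) := by
  exact Cfsg.Agent.Helper73.Asch.odd_relIndex_stab_stab h2 N hn hab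

/-- (S3) existence of the data, given the orbit-stabilizer equation. -/
theorem exists_setup_of_card (h2 : TwoTrans (⊤ : Subgroup G) Ω) (N : Subgroup G) [N.Normal]
    (hT : Trans N Ω) (hn : Fintype.card Ω % 4 = 2) (a : Ω)
    (hcard : Nat.card N = Fintype.card Ω * Nat.card (stabIn N a)) :
    ∃ D : Setup G Ω, D.N = N ∧ D.a = a := by
  exact Cfsg.Agent.Helper24.Asch.exists_setup_of_card h2 N hT hn a hcard

namespace Setup

variable (D : Setup G Ω)

/-- (S4) `S` normalizes `Q` (index 2), and `t * t ∈ Q`. -/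
theorem S_le_normalizer : D.S ≤ Subgroup.normalizer (D.Q : Set G) := by
  exact Cfsg.Agent.Helper24.Asch.S_le_normalizer D

theorem t_mul_t_mem : D.t * D.t ∈ D.Q := by
  exact Cfsg.Agent.Helper24.Asch.t_mul_t_mem D

/-- (S5) `t` fixes no fixed point `γ` of `Q` (else `S = Q ∪ tQ ≤ N_γ`, too big),
given that `Q` is Sylow in `N_γ`. -/
theorem t_smul_ne_of {γ : Ω} (hγ : γ ∈ fix D.Q Ω)
    (h6 : ¬ 2 ∣ D.Q.relIndex (stabIn D.N γ)) : D.t • γ ≠ γ := by
  exact Cfsg.Agent.Helper53.Asch.t_smul_ne_of_fields D.hQS D.hSN D.hcard D.htS D.htQ hγ h6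

/-- (S7) `Q` fixes a point in the `N_a`-orbit of `b`, given that the orbit has odd length. -/
theorem exists_smul_mem_fix_of {b : Ω}
    (hodd : ¬ 2 ∣ (stabIn D.N D.a ⊓ stabilizer G b).relIndex (stabIn D.N D.a)) :
    ∃ x ∈ stabIn D.N D.a, x • b ∈ fix D.Q Ω := by
  have : Fact (Nat.Prime 2) := ⟨Nat.prime_two⟩
  -- a Sylow 2-subgroup of `K = N_a ⊓ G_b`, as a subgroup of `G`
  obtain ⟨P⟩ : Nonempty (Sylow 2 ↥(stabIn D.N D.a ⊓ stabilizer G b)) := inferInstance
  set K := stabIn D.N D.a ⊓ stabilizer G b with hK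
  set P₀ : Subgroup G := (P : Subgroup ↥K).map K.subtype with hP₀
  have hP₀K : P₀ ≤ K := by
    rintro _ ⟨x, -, rfl⟩
    exact x.2
  have hP₀p : IsPGroup 2 P₀ := P.2.map _
  have hidxK : ¬ 2 ∣ P₀.relIndex K := by
    rw [hP₀, Cfsg.Agent.Helper24.Asch.s3_relIndex_map_subtype]
    exact P.not_dvd_index
  have hidxA : ¬ 2 ∣ P₀.relIndex (stabIn D.N D.a) := by
    have := Subgroup.relIndex_mul_relIndex P₀ K (stabIn D.N D.a) hP₀K inf_le_left
    rw [← this]
    intro h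
    rcases (Nat.Prime.dvd_mul Nat.prime_two).1 h with h | h
    · exact hidxK h
    · exact hodd h
  obtain ⟨x, hx, hxq⟩ := Cfsg.Agent.Helper84.exists_conj_le_of_relIndex (p := 2)
    (stabIn D.N D.a) P₀ D.Q (hP₀K.trans inf_le_left) hP₀p hidxA D.hQle D.hQ
  refine ⟨x⁻¹, Subgroup.inv_mem _ hx, fun q hq => ?_⟩
  have h1 : x * q * x⁻¹ ∈ stabilizer G b := (hP₀K (hxq q hq)).2
  have h2 : (x * q * x⁻¹) • b = b := h1
  calc q • x⁻¹ • b = x⁻¹ • (x * q * x⁻¹) • b := by
        rw [← mul_smul, ← mul_smul]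
        congr 1
        group
    _ = x⁻¹ • b := by rw [h2]

/-- (S8) `N_G(Q)` is 2-transitive on `fix Q`, given that `Q` is Sylow in `N_γ'δ'`. -/
theorem normalizer_twoTrans_of {γ δ γ' δ' : Ω} (hγ : γ ∈ fix D.Q Ω) (hδ : δ ∈ fix D.Q Ω)
    (hγ' : γ' ∈ fix D.Q Ω) (hδ' : δ' ∈ fix D.Q Ω) (h : γ ≠ δ) (h' : γ' ≠ δ')
    (h6 : ¬ 2 ∣ D.Q.relIndex (stabIn D.N γ' ⊓ stabilizer G δ')) :
    ∃ b ∈ Subgroup.normalizer (D.Q : Set G), b • γ = γ' ∧ b • δ = δ' := by
  exact Cfsg.Agent.Helper68.Asch.normalizer_twoTrans_core D.N D.Q D.normal D.twoTrans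
    (D.hQle.trans inf_le_left) D.hQ hγ hδ hγ' hδ' h h' h6

/-- (S9) `N_N(Q)` is transitive on `fix Q`, given that `Q` is Sylow in `N_γ'`. -/
theorem normalizer_trans_of {γ γ' : Ω} (hγ : γ ∈ fix D.Q Ω) (hγ' : γ' ∈ fix D.Q Ω)
    (h6 : ¬ 2 ∣ D.Q.relIndex (stabIn D.N γ')) :
    ∃ x ∈ D.N ⊓ Subgroup.normalizer (D.Q : Set G), x • γ = γ' := by
  exact Cfsg.Agent.Helper68.Asch.normalizer_trans_core D.N D.Q D.trans
    (D.hQle.trans inf_le_left) D.hQ hγ hγ' h6

/-- (S10) `|N_N(Q) : Q| = 2 * odd`, given that `S` normalizes `Q`. -/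
theorem card_normalizer_of (hSn : D.S ≤ Subgroup.normalizer (D.Q : Set G)) :
    ∃ m : ℕ, Odd m ∧
      Nat.card ↥(D.N ⊓ Subgroup.normalizer (D.Q : Set G)) = 2 * m * Nat.card D.Q := by
  have hSA : D.S ≤ D.N ⊓ Subgroup.normalizer (D.Q : Set G) := le_inf D.hSN hSn
  have hmc : D.S.relIndex (D.N ⊓ Subgroup.normalizer (D.Q : Set G)) * Nat.card D.S =
      Nat.card ↥(D.N ⊓ Subgroup.normalizer (D.Q : Set G)) := by
    have := Subgroup.relIndex_mul_relIndex ⊥ D.S (D.N ⊓ Subgroup.normalizer (D.Q : Set G))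
      bot_le hSA
    rw [Subgroup.relIndex_bot_left, Subgroup.relIndex_bot_left] at this
    rw [mul_comm]
    exact this
  refine ⟨D.S.relIndex (D.N ⊓ Subgroup.normalizer (D.Q : Set G)), ?_, ?_⟩
  · rw [← Nat.not_even_iff_odd, even_iff_two_dvd]
    intro h2
    apply D.hSidx
    have := Subgroup.relIndex_mul_relIndex D.S (D.N ⊓ Subgroup.normalizer (D.Q : Set G)) D.N
      hSA inf_le_left
    rw [← this]
    exact Dvd.dvd.mul_right h2 _
  · rw [← hmc, D.hcard]
    ring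

end Setup

/-! ## ASSEMBLY (helper35) -/

theorem relIndex_mul_card_of_le {Q H : Subgroup G} (h : Q ≤ H) :
    Q.relIndex H * Nat.card Q = Nat.card H := by
  have := Subgroup.relIndex_mul_relIndex ⊥ Q H bot_le h
  rw [Subgroup.relIndex_bot_left, Subgroup.relIndex_bot_left] at this
  rw [mul_comm]
  exact this

/-- (R) -/
theorem exists_ne_one_mem_stab [FaithfulSMul G Ω] (h2 : TwoTrans (⊤ : Subgroup G) Ω)
    (hn : Fintype.card Ω % 4 = 2) (hn2 : 2 < Fintype.card Ω)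
    (N : Subgroup G) [N.Normal] (hN : N ≠ ⊥) (a : Ω) : ∃ x ∈ N, x ≠ 1 ∧ x • a = a :=
  exists_ne_one_mem_stab_of_trans h2 hn hn2 N (trans_of_normal h2 N hN) a

/-- (C) the centralizer of a nontrivial normal subgroup is trivial. -/
theorem centralizer_eq_bot [FaithfulSMul G Ω] (h2 : TwoTrans (⊤ : Subgroup G) Ω)
    (hn : Fintype.card Ω % 4 = 2) (hn2 : 2 < Fintype.card Ω)
    (N : Subgroup G) [N.Normal] (hN : N ≠ ⊥) : Subgroup.centralizer (N : Set G) = ⊥ := by
  by_contra hne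
  have hT := trans_of_normal h2 N hN
  obtain ⟨a⟩ : Nonempty Ω := Fintype.card_pos_iff.1 (by omega)
  obtain ⟨c, hc, hc1, hca⟩ :=
    exists_ne_one_mem_stab h2 hn hn2 (Subgroup.centralizer (N : Set G)) hne a
  apply hc1
  apply FaithfulSMul.eq_of_smul_eq_smul (α := Ω)
  intro b
  obtain ⟨x, hx, rfl⟩ := hT a b
  have hcx : x * c = c * x := Subgroup.mem_centralizer_iff.1 hc x hx
  rw [one_smul, ← mul_smul, ← hcx, mul_smul, hca]

/-- (U) there is a unique minimal normal subgroup. -/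
theorem exists_min_normal [FaithfulSMul G Ω] (h2 : TwoTrans (⊤ : Subgroup G) Ω)
    (hn : Fintype.card Ω % 4 = 2) (hn2 : 2 < Fintype.card Ω) :
    ∃ M : Subgroup G, M.Normal ∧ M ≠ ⊥ ∧ ∀ N : Subgroup G, N.Normal → N ≠ ⊥ → M ≤ N := by
  have : Nontrivial G := by
    obtain ⟨a, b, hab⟩ := Fintype.exists_pair_of_one_lt_card (by omega : 1 < Fintype.card Ω)
    obtain ⟨g, -, hg, -⟩ := h2 hab (Ne.symm hab)
    exact ⟨⟨g, 1, fun h => hab (by rw [← hg, h, one_smul])⟩⟩
  exact exists_min_normal_of_centralizer (fun N hNn hN => by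
    have := hNn
    exact centralizer_eq_bot h2 hn hn2 N hN)

theorem exists_setup (h2 : TwoTrans (⊤ : Subgroup G) Ω) (N : Subgroup G) [N.Normal]
    (hT : Trans N Ω) (hn : Fintype.card Ω % 4 = 2) (a : Ω) :
    ∃ D : Setup G Ω, D.N = N ∧ D.a = a :=
  exists_setup_of_card h2 N hT hn a (card_eq_card_mul hT a)

namespace Setup

variable (D : Setup G Ω)

/-- (S6a) `Q` is a Sylow 2-subgroup of `N_γ` for every fixed point `γ` of `Q`. -/
theorem sylow_stab {γ : Ω} (hγ : γ ∈ fix D.Q Ω) :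
    D.Q ≤ stabIn D.N γ ∧ ¬ 2 ∣ D.Q.relIndex (stabIn D.N γ) := by
  have hle : D.Q ≤ stabIn D.N γ := fun q hq => ⟨(D.hQle hq).1, hγ q hq⟩
  refine ⟨hle, ?_⟩
  have h1 := relIndex_mul_card_of_le hle
  have h2 := relIndex_mul_card_of_le D.hQle
  rw [card_stabIn_eq D.trans γ D.a, ← h2] at h1
  have hpos : 0 < Nat.card D.Q := Nat.card_pos
  rw [Nat.eq_of_mul_eq_mul_right hpos h1]
  exact D.hQidx

/-- (S6b) `Q` is a Sylow 2-subgroup of `N_γδ` for all fixed points `γ, δ` of `Q`. -/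
theorem sylow_stab_stab {γ δ : Ω} (hγ : γ ∈ fix D.Q Ω) (hδ : δ ∈ fix D.Q Ω) :
    D.Q ≤ stabIn D.N γ ⊓ stabilizer G δ ∧
      ¬ 2 ∣ D.Q.relIndex (stabIn D.N γ ⊓ stabilizer G δ) := by
  obtain ⟨hle, hidx⟩ := D.sylow_stab hγ
  have hle2 : D.Q ≤ stabIn D.N γ ⊓ stabilizer G δ := fun q hq => ⟨hle hq, hδ q hq⟩
  refine ⟨hle2, fun h2 => hidx ?_⟩
  have := Subgroup.relIndex_mul_relIndex D.Q (stabIn D.N γ ⊓ stabilizer G δ) (stabIn D.N γ)
    hle2 inf_le_left
  rw [← this]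
  exact Dvd.dvd.mul_right h2 _

theorem t_smul_ne {γ : Ω} (hγ : γ ∈ fix D.Q Ω) : D.t • γ ≠ γ :=
  D.t_smul_ne_of hγ (D.sylow_stab hγ).2

theorem exists_smul_mem_fix (hn : Even (Fintype.card Ω)) {b : Ω} (hb : b ≠ D.a) :
    ∃ x ∈ stabIn D.N D.a, x • b ∈ fix D.Q Ω :=
  haveI := D.normal
  D.exists_smul_mem_fix_of (odd_relIndex_stab_stab D.twoTrans D.N hn (Ne.symm hb))

theorem normalizer_twoTrans {γ δ γ' δ' : Ω} (hγ : γ ∈ fix D.Q Ω) (hδ : δ ∈ fix D.Q Ω)
    (hγ' : γ' ∈ fix D.Q Ω) (hδ' : δ' ∈ fix D.Q Ω) (h : γ ≠ δ) (h' : γ' ≠ δ') :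
    ∃ b ∈ Subgroup.normalizer (D.Q : Set G), b • γ = γ' ∧ b • δ = δ' :=
  D.normalizer_twoTrans_of hγ hδ hγ' hδ' h h' (D.sylow_stab_stab hγ' hδ').2

theorem normalizer_trans {γ γ' : Ω} (hγ : γ ∈ fix D.Q Ω) (hγ' : γ' ∈ fix D.Q Ω) :
    ∃ x ∈ D.N ⊓ Subgroup.normalizer (D.Q : Set G), x • γ = γ' :=
  D.normalizer_trans_of hγ hγ' (D.sylow_stab hγ').2

theorem card_normalizer :
    ∃ m : ℕ, Odd m ∧
      Nat.card ↥(D.N ⊓ Subgroup.normalizer (D.Q : Set G)) = 2 * m * Nat.card D.Q :=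
  D.card_normalizer_of D.S_le_normalizer

/-- (Eglue) `fix Q = {a, t • a}`. -/
theorem smul_mem_fix_of_mem_normalizer {b : G} (hb : b ∈ Subgroup.normalizer (D.Q : Set G))
    {ω : Ω} (hω : ω ∈ fix D.Q Ω) : b • ω ∈ fix D.Q Ω := by
  intro q hq
  have hb' : b⁻¹ ∈ Subgroup.normalizer (D.Q : Set G) := Subgroup.inv_mem _ hb
  have h1 : b⁻¹ * q * b⁻¹⁻¹ ∈ D.Q := (Subgroup.mem_normalizer_iff.1 hb' q).1 hq
  have h2 := hω _ h1
  rw [inv_inv] at h2
  calc q • b • ω = b • (b⁻¹ * q * b) • ω := by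
        rw [← mul_smul, ← mul_smul]
        congr 1
        group
    _ = b • ω := by rw [h2]

theorem a_mem_fix : D.a ∈ fix D.Q Ω := fun q hq => (D.hQle hq).2

theorem t_mem_normalizer : D.t ∈ Subgroup.normalizer (D.Q : Set G) :=
  D.S_le_normalizer D.htS

theorem Q_le_normalizer : D.Q ≤ Subgroup.normalizer (D.Q : Set G) :=
  D.hQS.trans D.S_le_normalizer

theorem fix_subset {γ : Ω} (hγ : γ ∈ fix D.Q Ω) :
    γ = D.a ∨ γ = D.t • D.a := by
  classical
  have := D.normal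
  -- the action of `B = N_G(Q)` on `F = fix Q`
  let _ : MulAction ↥(Subgroup.normalizer (D.Q : Set G)) ↥(fix D.Q Ω) :=
    { smul := fun b x => ⟨(b : G) • (x : Ω), D.smul_mem_fix_of_mem_normalizer b.2 x.2⟩
      one_smul := fun x => Subtype.ext (one_smul G (x : Ω))
      mul_smul := fun b b' x => Subtype.ext (mul_smul (b : G) (b' : G) (x : Ω)) }
  have hsm : ∀ (b : ↥(Subgroup.normalizer (D.Q : Set G))) (x : ↥(fix D.Q Ω)),
      ((b • x : ↥(fix D.Q Ω)) : Ω) = (b : G) • (x : Ω) := fun _ _ => rfl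
  let _ : Fintype ↥(fix D.Q Ω) := Fintype.ofFinite _
  obtain ⟨m, hm, hcard⟩ := D.card_normalizer
  have hcardA : Nat.card ↥(D.N.subgroupOf (Subgroup.normalizer (D.Q : Set G))) =
      2 * m * Nat.card ↥(D.Q.subgroupOf (Subgroup.normalizer (D.Q : Set G))) := by
    rw [← Subgroup.inf_subgroupOf_right,
      Nat.card_congr (Subgroup.subgroupOfEquivOfLe (inf_le_right :
        D.N ⊓ Subgroup.normalizer (D.Q : Set G) ≤ Subgroup.normalizer (D.Q : Set G))).toEquiv,
      Nat.card_congr (Subgroup.subgroupOfEquivOfLe D.Q_le_normalizer).toEquiv, hcard]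
  have hle := card_le_two_of_sign (B := ↥(Subgroup.normalizer (D.Q : Set G)))
    (Φ := ↥(fix D.Q Ω))
    (D.N.subgroupOf (Subgroup.normalizer (D.Q : Set G)))
    (D.Q.subgroupOf (Subgroup.normalizer (D.Q : Set G)))
    (fun q hq => D.hQS.trans D.hSN hq)
    (fun q hq x => Subtype.ext (x.2 q.1 hq))
    ⟨D.t, D.t_mem_normalizer⟩ (D.hSN D.htS) D.t_mul_t_mem
    (fun x h => D.t_smul_ne x.2 (congrArg Subtype.val h))
    (fun a b c d hab hcd => by
      obtain ⟨g, hg, h1, h2⟩ := D.normalizer_twoTrans a.2 b.2 c.2 d.2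
        (fun h => hab (Subtype.ext h)) (fun h => hcd (Subtype.ext h))
      exact ⟨⟨g, hg⟩, Subgroup.mem_top _, Subtype.ext h1, Subtype.ext h2⟩)
    (fun a b => by
      obtain ⟨x, hx, h1⟩ := D.normalizer_trans a.2 b.2
      exact ⟨⟨x, hx.2⟩, hx.1, Subtype.ext h1⟩)
    m hm hcardA
  by_contra hcon
  push Not at hcon
  have hta : D.t • D.a ∈ fix D.Q Ω :=
    D.smul_mem_fix_of_mem_normalizer D.t_mem_normalizer D.a_mem_fix
  have h3 : 2 < Fintype.card ↥(fix D.Q Ω) := by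
    rw [Fintype.two_lt_card_iff]
    refine ⟨⟨γ, hγ⟩, ⟨D.a, D.a_mem_fix⟩, ⟨D.t • D.a, hta⟩, ?_, ?_, ?_⟩
    · exact fun h => hcon.1 (congrArg Subtype.val h)
    · exact fun h => hcon.2 (congrArg Subtype.val h)
    · exact fun h => D.t_smul_ne D.a_mem_fix (congrArg Subtype.val h).symm
  omega

end Setup

/-- (A) a transitive normal subgroup of a 2-transitive group of degree `≡ 2 mod 4` is
2-transitive. -/
theorem twoTrans_of_trans (h2 : TwoTrans (⊤ : Subgroup G) Ω) (N : Subgroup G) [N.Normal]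
    (hT : Trans N Ω) (hn : Fintype.card Ω % 4 = 2) : TwoTrans N Ω := by
  have hev : Even (Fintype.card Ω) := by
    rw [Nat.even_iff]
    omega
  have key : ∀ a : Ω, ∀ b b' : Ω, b ≠ a → b' ≠ a → ∃ x ∈ stabIn N a, x • b = b' := by
    intro a b b' hb hb'
    obtain ⟨D, rfl, rfl⟩ := exists_setup h2 N hT hn a
    obtain ⟨x, hx, hxf⟩ := D.exists_smul_mem_fix hev hb
    obtain ⟨x', hx', hxf'⟩ := D.exists_smul_mem_fix hev hb'
    have h1 : x • b = D.t • D.a := by
      rcases D.fix_subset hxf with h | h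
      · exfalso
        apply hb
        have hxa : x • D.a = D.a := hx.2
        have : x • b = x • D.a := by rw [h, hxa]
        exact smul_left_cancel x this
      · exact h
    have h2' : x' • b' = D.t • D.a := by
      rcases D.fix_subset hxf' with h | h
      · exfalso
        apply hb'
        have hxa : x' • D.a = D.a := hx'.2
        have : x' • b' = x' • D.a := by rw [h, hxa]
        exact smul_left_cancel x' this
      · exact h
    refine ⟨x'⁻¹ * x, Subgroup.mul_mem _ (Subgroup.inv_mem _ hx') hx, ?_⟩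
    rw [mul_smul, h1, ← h2', inv_smul_smul]
  intro a b c d hab hcd
  obtain ⟨u, hu, hua⟩ := hT a c
  have h1 : u • b ≠ c := by
    rw [← hua]
    exact fun h => hab (smul_left_cancel u h).symm
  obtain ⟨x, hx, hxb⟩ := key c (u • b) d h1 (Ne.symm hcd)
  refine ⟨x * u, N.mul_mem hx.1 hu, ?_, ?_⟩
  · rw [mul_smul, hua]
    exact hx.2
  · rw [mul_smul, hxb]

/-- the main theorem, in the form of the frozen statement. -/
theorem main [FaithfulSMul G Ω]
    (h2 : MulAction.IsMultiplyPretransitive G Ω 2) (hn : Fintype.card Ω % 4 = 2)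
    (hn2 : 2 < Fintype.card Ω) :
    ∃ M : Subgroup G, M.Normal ∧ M ≠ ⊥ ∧ (∀ N : Subgroup G, N.Normal → N ≠ ⊥ → M ≤ N) ∧
      IsSimpleGroup ↥M ∧ MulAction.IsMultiplyPretransitive ↥M Ω 2 ∧
      Subgroup.centralizer (M : Set G) = ⊥ := by
  have h2' : TwoTrans (⊤ : Subgroup G) Ω := twoTrans_top_iff.2 h2
  obtain ⟨M, hMn, hM1, hMmin⟩ := exists_min_normal h2' hn hn2
  have := hMn
  have hMT : Trans M Ω := trans_of_normal h2' M hM1
  have hM2 : TwoTrans M Ω := twoTrans_of_trans h2' M hMT hn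
  have hM2' : MulAction.IsMultiplyPretransitive ↥M Ω 2 := (twoTrans_subgroup_iff M).1 hM2
  refine ⟨M, hMn, hM1, hMmin, ?_, hM2', centralizer_eq_bot h2' hn hn2 M hM1⟩
  have : FaithfulSMul ↥M Ω :=
    ⟨fun {m₁ m₂} h => Subtype.ext (FaithfulSMul.eq_of_smul_eq_smul (α := Ω) (fun a => h a))⟩
  obtain ⟨L, hLn, hL1, hLmin⟩ := exists_min_normal (G := ↥M) (twoTrans_top_iff.2 hM2') hn hn2
  have := hLn
  -- `L` is invariant under conjugation by `G`
  have hinv : ∀ g : G, L.map (MulAut.conjNormal g : MulAut ↥M).toMonoidHom = L := by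
    have hle : ∀ g : G, L ≤ L.map (MulAut.conjNormal g : MulAut ↥M).toMonoidHom := by
      intro g
      apply hLmin
      · exact Subgroup.Normal.map hLn _ (MulAut.conjNormal g : MulAut ↥M).surjective
      · intro h
        apply hL1
        exact (Subgroup.map_eq_bot_iff_of_injective L
          (f := (MulAut.conjNormal g : MulAut ↥M).toMonoidHom) (MulEquiv.injective _)).1 h
    intro g
    apply le_antisymm _ (hle g)
    rintro _ ⟨y, hy, rfl⟩
    obtain ⟨z, hz, hzy⟩ := hle g⁻¹ hy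
    have : (MulAut.conjNormal g : MulAut ↥M) y = z := by
      rw [← hzy]
      change (MulAut.conjNormal g : MulAut ↥M) ((MulAut.conjNormal g⁻¹ : MulAut ↥M) z) = z
      rw [map_inv]
      exact MulEquiv.apply_symm_apply _ z
    change (MulAut.conjNormal g : MulAut ↥M) y ∈ L
    rw [this]
    exact hz
  have hL'n : (L.map M.subtype).Normal := by
    constructor
    rintro _ ⟨y, hy, rfl⟩ g
    refine ⟨(MulAut.conjNormal g : MulAut ↥M) y, ?_, ?_⟩
    · rw [← hinv g]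
      exact ⟨y, hy, rfl⟩
    · simp [MulAut.conjNormal_apply]
  have hL'1 : L.map M.subtype ≠ ⊥ := by
    intro h
    apply hL1
    rw [Subgroup.map_eq_bot_iff_of_injective _ M.subtype_injective] at h
    exact h
  have hML : M ≤ L.map M.subtype := hMmin _ hL'n hL'1
  have hLtop : L = ⊤ := by
    rw [eq_top_iff]
    intro m _
    obtain ⟨y, hy, hym⟩ := hML m.2
    have : y = m := Subtype.ext hym
    rw [← this]
    exact hy
  have : Nontrivial ↥M := (Subgroup.nontrivial_iff_ne_bot M).2 hM1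
  refine ⟨fun H hH => ?_⟩
  by_cases hH1 : H = ⊥
  · exact Or.inl hH1
  · right
    rw [eq_top_iff, ← hLtop]
    exact hLmin H hH hH1

end Cfsg.Agent.Helper35.Asch
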